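import Mathlib.RingTheory.AdicCompletion.AsTensorProduct

/-! Finite modules over complete Noetherian rings are complete. -/

namespace GrothLib.AdicLim

universe u v

theorem isAdicComplete_of_finite {A : Type u} [CommRing A] [IsNoetherianRing A] (J : Ideal A)
    [IsAdicComplete J A] (M : Type u) [AddCommGroup M] [Module A M] [Module.Finite A M] :
    IsAdicComplete J M := by
  rw [← AdicCompletion.of_bijective_iff]
  have h1 := AdicCompletion.ofTensorProduct_bijective_of_finite_of_isNoetherian J M
  have h2 : Function.Bijective (TensorProduct.map (AdicCompletion.of J A) (LinearMap.id : M →ₗ[A] M)) :=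
    (TensorProduct.congr (LinearEquiv.ofBijective _ (AdicCompletion.of_bijective J A))
      (LinearEquiv.refl A M)).bijective
  have e : ⇑(AdicCompletion.of J M) = ⇑(AdicCompletion.ofTensorProduct J M) ∘
      ⇑(TensorProduct.map (AdicCompletion.of J A) (LinearMap.id : M →ₗ[A] M)) ∘
        ⇑(TensorProduct.lid A M).symm := by
    ext x n
    simp
    exact (one_smul _ _).symm
  rw [e]
  exact h1.comp (h2.comp (TensorProduct.lid A M).symm.bijective)

end GrothLib.AdicLim
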