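import Groth.Agent.Lib.AdicLim.Basic
import Mathlib.RingTheory.Finiteness.Basic

/-! Limits of inverse systems `M (n+1) → M n` with kernels `I^(n+1) M (n+1)`. -/

namespace GrothLib.AdicLim

universe u v w

variable {A : Type u} [CommRing A] {I : Ideal A}
  {M : ℕ → Type v} [∀ n, AddCommGroup (M n)] [∀ n, Module A (M n)]
  {f : ∀ n, M (n + 1) →ₗ[A] M n}
  {L : Type w} [AddCommGroup L] [Module A L] {π : ∀ n, L →ₗ[A] M n}

/-- Inverse system with limit data. -/
structure IsLimitSystem (I : Ideal A) (f : ∀ n, M (n + 1) →ₗ[A] M n) (π : ∀ n, L →ₗ[A] M n) :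
    Prop where
  surj : ∀ n, Function.Surjective (f n)
  ker : ∀ n, LinearMap.ker (f n) = I ^ (n + 1) • (⊤ : Submodule A (M (n + 1)))
  comm : ∀ n, f n ∘ₗ π (n + 1) = π n
  inj : ∀ x : L, (∀ n, π n x = 0) → x = 0
  lift : ∀ y : (∀ n, M n), (∀ n, f n (y (n + 1)) = y n) → ∃ x : L, ∀ n, π n x = y n

namespace IsLimitSystem

variable (h : IsLimitSystem I f π)
include h

theorem smul_top_eq_bot (n : ℕ) : I ^ (n + 1) • (⊤ : Submodule A (M n)) = ⊥ := by
  rw [eq_bot_iff, ← LinearMap.range_eq_top.2 (h.surj n), ← Submodule.map_top,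
    ← Submodule.map_smul'', ← h.ker n]
  rintro _ ⟨x, hx, rfl⟩
  simpa using hx

theorem comm_apply (n : ℕ) (x : L) : f n (π (n + 1) x) = π n x := LinearMap.congr_fun (h.comm n) x

theorem proj_eq_zero_of_le {m n : ℕ} (hmn : m ≤ n) {x : L} (hx : π n x = 0) : π m x = 0 := by
  induction hmn with
  | refl => exact hx
  | @step k _ ih => exact ih (by rw [← h.comm_apply k, hx, map_zero])

theorem succ_mem {n : ℕ} {x : L} (hx : π n x = 0) :
    π (n + 1) x ∈ I ^ (n + 1) • (⊤ : Submodule A (M (n + 1))) := by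
  rw [← h.ker n, LinearMap.mem_ker, h.comm_apply, hx]

theorem proj_surjective (m : ℕ) : Function.Surjective (π m) := by
  intro z
  induction m with
  | zero =>
    let g : (n : ℕ) → M n := fun n => Nat.rec z (fun n y => (h.surj n y).choose) n
    obtain ⟨x, hx⟩ := h.lift g fun n => (h.surj n (g n)).choose_spec
    exact ⟨x, hx 0⟩
  | succ m ih =>
    obtain ⟨x, hx⟩ := ih (f m z)
    have hmem : z - π (m + 1) x ∈ LinearMap.ker (f m) := by
      rw [LinearMap.mem_ker, map_sub, h.comm_apply, hx, sub_self]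
    suffices LinearMap.ker (f m) ≤ LinearMap.range (π (m + 1)) by
      obtain ⟨y, hy⟩ := this hmem
      exact ⟨y + x, by rw [map_add, hy, sub_add_cancel]⟩
    rw [h.ker m, Submodule.smul_le]
    intro a ha w _
    obtain ⟨x', hx'⟩ := ih (f m w)
    have hw : w - π (m + 1) x' ∈ I ^ (m + 1) • (⊤ : Submodule A (M (m + 1))) := by
      rw [← h.ker m, LinearMap.mem_ker, map_sub, h.comm_apply, hx', sub_self]
    refine ⟨a • x', ?_⟩
    have h0 : a • (w - π (m + 1) x') ∈ I ^ (m + 2) • (⊤ : Submodule A (M (m + 1))) := by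
      have h1 : a • (w - π (m + 1) x') ∈ I ^ (m + 1) • I ^ (m + 1) • (⊤ : Submodule A (M (m + 1))) :=
        Submodule.smul_mem_smul ha hw
      rw [← Submodule.mul_smul, ← pow_add] at h1
      exact Submodule.smul_mono_left (Ideal.pow_le_pow_right (by omega)) h1
    rw [h.smul_top_eq_bot (m + 1), Submodule.mem_bot, smul_sub, sub_eq_zero] at h0
    rw [map_smul, h0]

theorem smul_top_le_ker (n : ℕ) : I ^ (n + 1) • (⊤ : Submodule A L) ≤ LinearMap.ker (π n) := by
  rw [Submodule.smul_le]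
  intro a ha x _
  rw [LinearMap.mem_ker, map_smul, ← Submodule.mem_bot A, ← h.smul_top_eq_bot n]
  exact Submodule.smul_mem_smul ha trivial

theorem iInf_ker : ⨅ n, LinearMap.ker (π n) = ⊥ := by
  rw [eq_bot_iff]
  intro x hx
  rw [Submodule.mem_iInf] at hx
  exact h.inj x fun n => hx n

theorem isHausdorff : IsHausdorff I L := by
  refine ⟨fun x hx => h.inj x fun n => ?_⟩
  have := hx (n + 1)
  rw [SModEq.zero] at this
  exact h.smul_top_le_ker n this

theorem eq_zero_of_mem {m p : ℕ} (hpm : p < m) {y : L} (hy : y ∈ I ^ m • (⊤ : Submodule A L)) :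
    π p y = 0 :=
  h.smul_top_le_ker p (Submodule.smul_mono_left (Ideal.pow_le_pow_right hpm) hy)

theorem ker_eq_of_fg (hI : I.FG) (n : ℕ) :
    LinearMap.ker (π n) = I ^ (n + 1) • (⊤ : Submodule A L) := by
  classical
  refine le_antisymm (fun x hx => ?_) (h.smul_top_le_ker n)
  obtain ⟨r, a, ha⟩ := Submodule.fg_iff_exists_fin_generating_family.1 (hI.pow (n := n + 1))
  have step : ∀ (k : ℕ) (z : L), π (n + k) z = 0 →
      ∃ y : Fin r → L, (∀ j, y j ∈ I ^ k • (⊤ : Submodule A L)) ∧
        π (n + k + 1) (z - ∑ j, a j • y j) = 0 := by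
    intro k z hz
    have hm := h.succ_mem hz
    have e : I ^ (n + k + 1) • (⊤ : Submodule A (M (n + k + 1))) =
        Submodule.map (π (n + k + 1)) (I ^ (n + 1) • I ^ k • (⊤ : Submodule A L)) := by
      rw [Submodule.map_smul'', Submodule.map_smul'', Submodule.map_top,
        LinearMap.range_eq_top.2 (h.proj_surjective _), ← Submodule.mul_smul, ← pow_add]
      congr 2; omega
    rw [e] at hm
    obtain ⟨w, hw, hwz⟩ := hm
    rw [SetLike.mem_coe, ← ha] at hw
    suffices ∃ y : Fin r → L, (∀ j, y j ∈ I ^ k • (⊤ : Submodule A L)) ∧ ∑ j, a j • y j = w by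
      obtain ⟨y, hy, rfl⟩ := this
      exact ⟨y, hy, by rw [map_sub, hwz, sub_self]⟩
    refine Submodule.smul_induction_on hw ?_ ?_
    · intro b hb q hq
      obtain ⟨c, rfl⟩ := (Submodule.mem_span_range_iff_exists_fun A).1 hb
      exact ⟨fun j => c j • q, fun j => Submodule.smul_mem _ _ hq, by
        rw [Finset.sum_smul]
        exact Finset.sum_congr rfl fun j _ => by rw [smul_smul, smul_eq_mul, mul_comm]⟩
    · rintro p q ⟨y, hy, rfl⟩ ⟨y', hy', rfl⟩
      exact ⟨y + y', fun j => add_mem (hy j) (hy' j), by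
        simp [Finset.sum_add_distrib, smul_add]⟩
  choose Y hY hπY using step
  let S : (k : ℕ) → {s : Fin r → L // π (n + k) (x - ∑ j, a j • s j) = 0} := fun k => Nat.rec
    ⟨0, by simpa using hx⟩
    (fun k s => ⟨s.1 + Y k _ s.2, by
      show π (n + k + 1) _ = 0
      simpa [Finset.sum_add_distrib, sub_sub, smul_add] using hπY k _ s.2⟩) k
  have hS : ∀ j p k, p + 1 ≤ k → π p ((S k).1 j) = π p ((S (p + 1)).1 j) := by
    intro j p k hk
    induction hk with
    | refl => rfl
    | @step i hi ih =>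
      rw [← ih]
      show π p (((S i).1 + Y i _ (S i).2) j) = _
      rw [Pi.add_apply, map_add, h.eq_zero_of_mem hi (hY i _ (S i).2 j), add_zero]
  have hlim : ∀ j, ∃ y : L, ∀ p, π p y = π p ((S (p + 1)).1 j) := fun j =>
    h.lift _ fun p => by rw [h.comm_apply, hS j p (p + 1 + 1) (Nat.le_succ _)]
  choose y hy using hlim
  have : x = ∑ j, a j • y j := by
    refine sub_eq_zero.1 (h.inj _ fun p => ?_)
    have h2 : π p (x - ∑ j, a j • y j) = π p (x - ∑ j, a j • (S (p + 1)).1 j) := by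
      simp [map_sub, map_sum, map_smul, hy]
    rw [h2]
    exact h.proj_eq_zero_of_le (by omega) (S (p + 1)).2
  rw [this]
  exact Submodule.sum_mem _ fun j _ =>
    Submodule.smul_mem_smul (ha ▸ Submodule.subset_span ⟨j, rfl⟩) trivial

theorem isAdicComplete_of_ker
    (hker : ∀ n, LinearMap.ker (π n) = I ^ (n + 1) • (⊤ : Submodule A L)) : IsAdicComplete I L := by
  have := h.isHausdorff
  refine { prec' := fun g hg => ?_ }
  have hc : ∀ n, f n (π (n + 1) (g (n + 2))) = π n (g (n + 1)) := fun n => by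
    rw [h.comm_apply, eq_comm, ← sub_eq_zero, ← map_sub]
    exact h.smul_top_le_ker n (SModEq.sub_mem.1 (hg (Nat.le_succ _)))
  obtain ⟨x, hx⟩ := h.lift (fun n => π n (g (n + 1))) hc
  refine ⟨x, fun n => ?_⟩
  cases n with
  | zero => rw [pow_zero, Ideal.one_eq_top, Submodule.top_smul]; exact SModEq.top
  | succ n =>
    rw [SModEq.sub_mem, ← hker n, LinearMap.mem_ker, map_sub, hx, sub_self]

theorem span_eq_top_of_zero {ι : Type*} (l : ι → L)
    (h0 : Submodule.span A (Set.range fun i => π 0 (l i)) = ⊤) (m : ℕ) :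
    Submodule.span A (Set.range fun i => π m (l i)) = ⊤ := by
  induction m with
  | zero => exact h0
  | succ m ih =>
    set N := Submodule.span A (Set.range fun i => π (m + 1) (l i))
    have hsup : (⊤ : Submodule A (M (m + 1))) ≤ N ⊔ I ^ (m + 1) • ⊤ := by
      intro z _
      have hN : Submodule.map (f m) N = ⊤ := by
        rw [Submodule.map_span, ← Set.range_comp]
        simpa [Function.comp_def, h.comm_apply] using ih
      obtain ⟨w, hw, hwz⟩ := (hN.symm ▸ trivial : f m z ∈ Submodule.map (f m) N)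
      refine Submodule.mem_sup.2 ⟨w, hw, z - w, ?_, by abel⟩
      rw [← h.ker m, LinearMap.mem_ker, map_sub, hwz, sub_self]
    rw [eq_top_iff]
    refine hsup.trans (sup_le le_rfl ?_)
    calc I ^ (m + 1) • (⊤ : Submodule A (M (m + 1)))
        ≤ I ^ (m + 1) • (N ⊔ I ^ (m + 1) • ⊤) := Submodule.smul_mono le_rfl hsup
      _ ≤ N := by
        rw [Submodule.smul_sup, ← Submodule.mul_smul, ← pow_add]
        refine sup_le Submodule.smul_le_right ?_
        refine le_trans (Submodule.smul_mono_left (Ideal.pow_le_pow_right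
          (by omega : m + 1 + 1 ≤ m + 1 + (m + 1)))) ?_
        rw [h.smul_top_eq_bot (m + 1)]
        exact bot_le

theorem coeff_step {ι : Type*} [Fintype ι] (l : ι → L)
    (h0 : Submodule.span A (Set.range fun i => π 0 (l i)) = ⊤) (m : ℕ) (y : L) (hy : π m y = 0) :
    ∃ c : ι → A, (∀ i, c i ∈ I ^ (m + 1)) ∧ π (m + 1) (y - ∑ i, c i • l i) = 0 := by
  have hm := h.succ_mem hy
  rw [← h.span_eq_top_of_zero l h0 (m + 1)] at hm
  obtain ⟨c, hc, hcy⟩ := (Submodule.mem_ideal_smul_span_iff_exists_sum _ _ _).1 hm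
  refine ⟨c, hc, ?_⟩
  rw [map_sub, map_sum]
  simp only [map_smul]
  rw [← hcy, Finsupp.sum_fintype _ _ (by simp), sub_self]

theorem ker_eq_and_span_of_generators [IsPrecomplete I A] {ι : Type*} [Fintype ι] (l : ι → L)
    (h0 : Submodule.span A (Set.range fun i => π 0 (l i)) = ⊤) :
    (∀ n, LinearMap.ker (π n) = I ^ (n + 1) • (⊤ : Submodule A L)) ∧
      Submodule.span A (Set.range l) = ⊤ := by
  have key : ∀ n x, π n x = 0 → ∃ c : ι → A, (∀ i, c i ∈ I ^ (n + 1)) ∧ x = ∑ i, c i • l i := by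
    intro n x hx
    refine exists_coeff_of_step l (n + 1) (fun k y => π (n + k) y = 0)
      (fun k => ⨅ p, ⨅ (_ : p < k), LinearMap.ker (π p))
      (fun k y hy => ?_) (fun k => ?_) ?_ (fun k y hy => ?_) hx
    · simp only [Submodule.mem_iInf, LinearMap.mem_ker]
      exact fun q hq => h.proj_eq_zero_of_le (by omega) hy
    · exact le_iInf fun q => le_iInf fun hq => fun z hz => h.eq_zero_of_mem hq hz
    · rw [eq_bot_iff, ← h.iInf_ker]
      exact le_iInf fun q => (iInf_le _ (q + 1)).trans ((iInf_le _ q).trans (iInf_le _ (Nat.lt_succ_self q)))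
    · obtain ⟨c, hc, hc'⟩ := h.coeff_step l h0 (n + k) y hy
      exact ⟨c, fun i => by simpa [add_assoc, add_comm, add_left_comm] using hc i, hc'⟩
  refine ⟨fun n => le_antisymm (fun x hx => ?_) (h.smul_top_le_ker n), ?_⟩
  · obtain ⟨c, hc, rfl⟩ := key n x hx
    exact Submodule.sum_mem _ fun i _ => Submodule.smul_mem_smul (hc i) trivial
  · rw [eq_top_iff]
    intro x _
    obtain ⟨c, hc⟩ := (Submodule.mem_span_range_iff_exists_fun A).1
      (h0.symm ▸ trivial : π 0 x ∈ Submodule.span A (Set.range fun i => π 0 (l i)))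
    obtain ⟨d, -, hd⟩ := key 0 (x - ∑ i, c i • l i) (by simp [map_sub, map_sum, ← hc])
    rw [sub_eq_iff_eq_add] at hd
    rw [hd]
    exact add_mem (Submodule.sum_mem _ fun i _ => Submodule.smul_mem _ _ (Submodule.subset_span ⟨i, rfl⟩))
      (Submodule.sum_mem _ fun i _ => Submodule.smul_mem _ _ (Submodule.subset_span ⟨i, rfl⟩))

theorem finite_and_ker [IsPrecomplete I A] (hfin : Module.Finite A (M 0)) :
    Module.Finite A L ∧ ∀ n, LinearMap.ker (π n) = I ^ (n + 1) • (⊤ : Submodule A L) := by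
  classical
  obtain ⟨s, hs⟩ := hfin.fg_top
  choose l hl using fun y : s => h.proj_surjective 0 (y : M 0)
  have h0 : Submodule.span A (Set.range fun y : s => π 0 (l y)) = ⊤ := by
    have : (Set.range fun y : s => π 0 (l y)) = (s : Set (M 0)) := by
      ext z; simp [hl]
    rw [this, hs]
  obtain ⟨h1, h2⟩ := h.ker_eq_and_span_of_generators l h0
  exact ⟨⟨⟨Finset.univ.image l, by simpa using h2⟩⟩, h1⟩

end IsLimitSystem

end GrothLib.AdicLim
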