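import Groth.Agent.Lib.AdicLim.Basic
import Mathlib.RingTheory.Noetherian.OfPrime
import Mathlib.RingTheory.Ideal.Quotient.Operations
import Mathlib.RingTheory.Finiteness.Quotient

/-! A complete ring with Noetherian reduction and finitely generated ideal is Noetherian. -/

namespace GrothLib.AdicLim

universe u

variable {A : Type u} [CommRing A] {I : Ideal A}

theorem fg_of_not_le [IsAdicComplete I A] {P : Ideal A} [P.IsPrime] {a : A} (haI : a ∈ I)
    (haP : a ∉ P) (hfg : (P ⊔ Ideal.span {a}).FG) : P.FG := by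
  classical
  obtain ⟨k, f, hf⟩ := Submodule.fg_iff_exists_fin_generating_family.1 hfg
  have H : ∀ i, ∃ r : A, ∃ p ∈ P, p + r * a = f i := fun i => by
    have : f i ∈ P ⊔ Ideal.span {a} := hf ▸ Submodule.subset_span ⟨i, rfl⟩
    obtain ⟨p, hp, q, hq, e⟩ := Submodule.mem_sup.1 this
    obtain ⟨r, rfl⟩ := Ideal.mem_span_singleton'.1 hq
    exact ⟨r, p, hp, e⟩
  choose r p hp e using H
  have step : ∀ x ∈ P, ∃ c : Fin k → A, ∃ y ∈ P, x = ∑ i, c i * p i + a * y := by
    intro x hx
    have hx' : x ∈ Submodule.span A (Set.range f) := hf ▸ Ideal.mem_sup_left hx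
    obtain ⟨c, hc⟩ := (Submodule.mem_span_range_iff_exists_fun A).1 hx'
    refine ⟨c, ∑ i, c i * r i, ?_, ?_⟩
    · have hsum : ∑ i, c i * p i ∈ P := P.sum_mem fun i _ => P.mul_mem_left _ (hp i)
      have : a * (∑ i, c i * r i) ∈ P := by
        have heq : a * (∑ i, c i * r i) = x - ∑ i, c i * p i := by
          rw [← hc, Finset.mul_sum, ← Finset.sum_sub_distrib]
          refine Finset.sum_congr rfl fun i _ => ?_
          rw [smul_eq_mul, ← e i]; ring
        rw [heq]; exact P.sub_mem hx hsum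
      exact (Ideal.IsPrime.mem_or_mem ‹_› this).resolve_left haP
    · rw [← hc, Finset.mul_sum, ← Finset.sum_add_distrib]
      refine Finset.sum_congr rfl fun i _ => ?_
      rw [smul_eq_mul, ← e i]; ring
  refine ⟨Finset.univ.image p, le_antisymm (Ideal.span_le.2 ?_) fun x hx => ?_⟩
  · intro y hy
    obtain ⟨i, -, rfl⟩ := Finset.mem_image.1 hy
    exact hp i
  obtain ⟨c, -, hc⟩ := exists_coeff_of_pow_step (I := I) p 0 (fun n y => ∃ z ∈ P, y = a ^ n * z)
    (fun n y hy => by
      obtain ⟨z, -, rfl⟩ := hy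
      rw [Ideal.smul_eq_mul, Ideal.mul_top]
      exact Ideal.mul_mem_right _ _ (Ideal.pow_mem_pow haI n))
    (fun n y hy => by
      obtain ⟨z, hz, rfl⟩ := hy
      obtain ⟨c, w, hw, rfl⟩ := step z hz
      refine ⟨fun i => a ^ n * c i, fun i => Ideal.mul_mem_right _ _ (Ideal.pow_mem_pow haI n),
        w, hw, ?_⟩
      simp only [smul_eq_mul, mul_add, Finset.mul_sum, mul_assoc]
      ring)
    (x := x) ⟨x, hx, by simp⟩
  rw [hc]
  exact Submodule.sum_mem _ fun i _ => Submodule.smul_mem _ _ (Ideal.subset_span (by simp))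

theorem isNoetherianRing_of_complete [IsAdicComplete I A] [IsNoetherianRing (A ⧸ I)] (hI : I.FG) :
    IsNoetherianRing A := by
  classical
  refine isNoetherianRing_iff_ideal_fg A |>.2 fun J => ?_
  by_contra hJ
  obtain ⟨P, -, hP⟩ : ∃ M, J ≤ M ∧ Maximal (fun K : Ideal A => ¬ K.FG) M := by
    refine zorn_le_nonempty₀ {K : Ideal A | ¬ K.FG} (fun C hC hchain K hK => ⟨sSup C, ?_, fun _ => le_sSup⟩) J hJ
    rintro ⟨G, hG⟩
    obtain ⟨L, hLC, hGL⟩ : ∃ L ∈ C, (G : Set A) ⊆ L := by
      refine hchain.directedOn.exists_mem_subset_of_finset_subset_biUnion ⟨K, hK⟩ fun x hx => ?_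
      simp only [Set.mem_iUnion, SetLike.mem_coe, exists_prop]
      exact (Submodule.mem_sSup_of_directed ⟨K, hK⟩ hchain.directedOn).1 <|
        hG ▸ Ideal.subset_span hx
    exact hC hLC ⟨G, le_antisymm (Ideal.span_le.2 hGL) (hG ▸ le_sSup hLC)⟩
  have : P.IsPrime := Ideal.isOka_fg.isPrime_of_maximal_not hP
  by_cases hIP : I ≤ P
  · refine hP.prop (Submodule.fg_of_fg_map_of_fg_inf_ker (Submodule.mkQ I) ?_ ?_)
    · obtain ⟨t, ht⟩ := IsNoetherian.noetherian (P.map (Ideal.Quotient.mk I))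
      refine ⟨t, ?_⟩
      have hsur : Function.Surjective (algebraMap A (A ⧸ I)) := Ideal.Quotient.mk_surjective
      rw [← Submodule.restrictScalars_span A (A ⧸ I) hsur, ht]
      ext y
      rw [Submodule.restrictScalars_mem, Ideal.mem_map_iff_of_surjective _ Ideal.Quotient.mk_surjective,
        Submodule.mem_map]
      rfl
    · rwa [Submodule.ker_mkQ, inf_eq_right.2 hIP]
  · obtain ⟨a, haI, haP⟩ := SetLike.not_le_iff_exists.1 hIP
    exact hP.prop (fg_of_not_le haI haP
      (not_not.1 <| hP.not_prop_of_gt (Submodule.lt_sup_iff_notMem.2 haP)))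

end GrothLib.AdicLim
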