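import Mathlib.RingTheory.AdicCompletion.Basic
import Mathlib.RingTheory.Ideal.Operations
import Mathlib.RingTheory.Finiteness.Ideal
import Mathlib.RingTheory.Noetherian.Basic

/-! Successive approximation over adically complete rings. -/

namespace GrothLib.AdicLim

universe u v

variable {A : Type u} [CommRing A] {I : Ideal A}

/-- Successive approximation: coefficients converge by precompleteness. -/
theorem exists_coeff_of_step [IsPrecomplete I A] {M : Type v} [AddCommGroup M] [Module A M]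
    {ι : Type*} [Fintype ι] (g : ι → M) (e : ℕ) (G : ℕ → M → Prop) (H : ℕ → Submodule A M)
    (hGH : ∀ n y, G n y → y ∈ H n) (hIH : ∀ n, I ^ n • (⊤ : Submodule A M) ≤ H n)
    (hH : ⨅ n, H n = ⊥)
    (step : ∀ n y, G n y →
      ∃ c : ι → A, (∀ i, c i ∈ I ^ (n + e)) ∧ G (n + 1) (y - ∑ i, c i • g i))
    {x : M} (hx : G 0 x) :
    ∃ c : ι → A, (∀ i, c i ∈ I ^ e) ∧ x = ∑ i, c i • g i := by
  classical
  choose c hc hG using step

  let S : (n : ℕ) → {s : ι → A // G n (x - ∑ i, s i • g i)} := fun n => Nat.rec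
    ⟨0, by simpa using hx⟩
    (fun n s => ⟨s.1 + c n _ s.2, by
      simpa [add_smul, Finset.sum_add_distrib, sub_sub] using hG n _ s.2⟩) n
  have hS : ∀ n i, (S (n + 1)).1 i - (S n).1 i ∈ I ^ (n + e) := fun n i => by
    show ((S n).1 + c n _ (S n).2) i - (S n).1 i ∈ _
    simpa using hc n _ (S n).2 i
  have hSle : ∀ {m n : ℕ}, m ≤ n → ∀ i, (S n).1 i - (S m).1 i ∈ I ^ (m + e) := by
    intro m n h i
    induction h with
    | refl => simp
    | @step n hmn ih =>
      have := Ideal.add_mem _ (Ideal.pow_le_pow_right (Nat.add_le_add_right hmn e) (hS n i)) ih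
      simpa using this
  have hlim : ∀ i, ∃ L : A, ∀ n, (S n).1 i - L ∈ I ^ n := by
    intro i
    obtain ⟨L, hL⟩ := IsPrecomplete.prec (inferInstance : IsPrecomplete I A)
      (f := fun n => (S n).1 i) (fun {m n} h => by
        rw [SModEq.sub_mem, Ideal.smul_eq_mul, Ideal.mul_top]
        have := Ideal.pow_le_pow_right (Nat.le_add_right m e) (hSle h i)
        simpa using neg_mem this)
    refine ⟨L, fun n => ?_⟩
    have := hL n
    rwa [SModEq.sub_mem, Ideal.smul_eq_mul, Ideal.mul_top] at this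
  choose L hL using hlim
  refine ⟨L, fun i => ?_, ?_⟩
  · have h1 : (S e).1 i - (S 0).1 i ∈ I ^ e := by simpa using hSle (Nat.zero_le e) i
    have h0 : (S 0).1 i = 0 := rfl
    have h2 := Ideal.sub_mem _ h1 (hL i e)
    simpa [h0] using h2
  · have : x - ∑ i, L i • g i ∈ ⨅ n, H n := by
      rw [Submodule.mem_iInf]
      intro n
      have e1 : x - ∑ i, L i • g i
          = (x - ∑ i, (S n).1 i • g i) + ∑ i, ((S n).1 i - L i) • g i := by
        simp [sub_smul, Finset.sum_sub_distrib]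
      rw [e1]
      refine Submodule.add_mem _ (hGH _ _ (S n).2) (Submodule.sum_mem _ fun i _ => hIH n ?_)
      exact Submodule.smul_mem_smul (hL i n) trivial
    rw [hH, Submodule.mem_bot, sub_eq_zero] at this
    exact this

theorem exists_coeff_of_pow_step [IsPrecomplete I A] {M : Type v} [AddCommGroup M] [Module A M]
    [IsHausdorff I M] {ι : Type*} [Fintype ι] (g : ι → M) (e : ℕ) (G : ℕ → M → Prop)
    (hGH : ∀ n y, G n y → y ∈ I ^ n • (⊤ : Submodule A M))
    (step : ∀ n y, G n y →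
      ∃ c : ι → A, (∀ i, c i ∈ I ^ (n + e)) ∧ G (n + 1) (y - ∑ i, c i • g i))
    {x : M} (hx : G 0 x) :
    ∃ c : ι → A, (∀ i, c i ∈ I ^ e) ∧ x = ∑ i, c i • g i :=
  exists_coeff_of_step g e G _ hGH (fun _ => le_rfl)
    (IsHausdorff.iInf_pow_smul (I := I) (M := M) inferInstance) step hx

/-- An ideal which is generated by `g` modulo its square is generated by `g`, in a complete ring. -/
theorem span_eq_of_le_sup_sq [IsAdicComplete I A] {ι : Type*} [Fintype ι] (g : ι → A)
    (hg : ∀ i, g i ∈ I) (h : I ≤ Ideal.span (Set.range g) ⊔ I ^ 2) :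
    Ideal.span (Set.range g) = I := by
  refine le_antisymm (Ideal.span_le.2 (by rintro _ ⟨i, rfl⟩; exact hg i)) fun x hx => ?_
  have key : ∀ n, I ^ (n + 1) ≤ I ^ n * Ideal.span (Set.range g) ⊔ I ^ (n + 2) := fun n =>
    calc I ^ (n + 1) = I ^ n * I := pow_succ I n
      _ ≤ I ^ n * (Ideal.span (Set.range g) ⊔ I ^ 2) := Ideal.mul_mono_right h
      _ = _ := by rw [Ideal.mul_sup, ← pow_add]
  obtain ⟨c, -, hc⟩ := exists_coeff_of_pow_step (I := I) g 0 (fun n y => y ∈ I ^ (n + 1))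
    (fun n y hy => by
      rw [Ideal.smul_eq_mul, Ideal.mul_top]
      exact Ideal.pow_le_pow_right (Nat.le_succ n) hy)
    (fun n y hy => by
      obtain ⟨a, ha, b, hb, rfl⟩ := Submodule.mem_sup.1 (key n hy)
      rw [← Ideal.smul_eq_mul, Ideal.span] at ha
      obtain ⟨c, hc, rfl⟩ : ∃ c : ι → A, (∀ i, c i ∈ I ^ n) ∧ ∑ i, c i • g i = a := by
        rw [Submodule.mem_ideal_smul_span_iff_exists_sum] at ha
        obtain ⟨c, hc, rfl⟩ := ha
        exact ⟨c, hc, by rw [Finsupp.sum_fintype]; simp⟩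
      exact ⟨c, by simpa using hc, by simpa using hb⟩)
    (x := x) (by simpa using hx)
  rw [hc]
  exact Submodule.sum_mem _ fun i _ => Submodule.smul_mem _ _ (Ideal.subset_span ⟨i, rfl⟩)

theorem fg_of_sq [IsAdicComplete I A] [IsNoetherianRing (A ⧸ I ^ 2)] : I.FG := by
  classical
  obtain ⟨s, hs⟩ := IsNoetherian.noetherian (I.map (Ideal.Quotient.mk (I ^ 2)))
  have hmem : ∀ y : s, ∃ a ∈ I, Ideal.Quotient.mk (I ^ 2) a = (y : A ⧸ I ^ 2) := fun y =>
    (Ideal.mem_map_iff_of_surjective _ Ideal.Quotient.mk_surjective).1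
      (hs ▸ Submodule.subset_span y.2)
  choose a ha hay using hmem
  refine (span_eq_of_le_sup_sq a ha ?_) ▸ Submodule.fg_span (Set.finite_range a)
  intro x hx
  have : Ideal.Quotient.mk (I ^ 2) x ∈ (Ideal.span (Set.range a)).map (Ideal.Quotient.mk (I ^ 2)) := by
    rw [Ideal.map_span]
    have h1 : Ideal.Quotient.mk (I ^ 2) x ∈ Submodule.span (A ⧸ I ^ 2) (s : Set (A ⧸ I ^ 2)) := by
      rw [hs]; exact Ideal.mem_map_of_mem _ hx
    refine Submodule.span_mono ?_ h1
    intro y hy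
    exact ⟨a ⟨y, hy⟩, ⟨_, rfl⟩, hay ⟨y, hy⟩⟩
  rwa [← Ideal.mem_comap, Ideal.comap_map_of_surjective _ Ideal.Quotient.mk_surjective,
    ← RingHom.ker_eq_comap_bot, Ideal.mk_ker] at this

end GrothLib.AdicLim
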