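import Mathlib.RingTheory.AdicCompletion.Basic

/-! Completeness for equivalent adic filtrations. -/

namespace GrothLib.AdicLim

universe u v

theorem isAdicComplete_of_le_of_pow_le {A : Type u} [CommRing A] {J K : Ideal A} {k : ℕ}
    (h1 : J ≤ K) (h2 : K ^ k ≤ J) (M : Type v) [AddCommGroup M] [Module A M] [IsAdicComplete J M] :
    IsAdicComplete K M := by
  have h3 : K ^ (k + 1) ≤ J := (Ideal.pow_le_pow_right (Nat.le_succ k)).trans h2
  have hK : ∀ n, K ^ ((k + 1) * n) • (⊤ : Submodule A M) ≤ J ^ n • ⊤ := fun n => by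
    rw [pow_mul]; exact Submodule.smul_mono_left (Ideal.pow_right_mono h3 n)
  have : IsHausdorff K M := ⟨fun x hx => IsHausdorff.haus (inferInstance : IsHausdorff J M) x fun n =>
    SModEq.zero.2 (hK n (SModEq.zero.1 (hx _)))⟩
  refine { prec' := fun f hf => ?_ }
  obtain ⟨L, hL⟩ := IsPrecomplete.prec (inferInstance : IsPrecomplete J M)
    (f := fun n => f ((k + 1) * n)) (fun {p q} hpq => by
      refine SModEq.mono (hK p) (hf ?_)
      exact Nat.mul_le_mul_left _ hpq)
  refine ⟨L, fun n => ?_⟩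
  refine (hf (show n ≤ (k + 1) * n from Nat.le_mul_of_pos_left n (Nat.succ_pos k))).trans ?_
  exact SModEq.mono (Submodule.smul_mono_left (Ideal.pow_right_mono h1 n)) (hL n)

end GrothLib.AdicLim
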