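import Groth.Prelude.Def_AssocGrMod
import Groth.Agent.Lib.AdicLim.Basic

/-! Lifting generators from the associated graded module. -/

namespace GrothLib.AdicLim

open AssocGr

universe u

variable {A : Type u} [CommRing A] {I : Ideal A} {M : Type u} [AddCommGroup M] [Module A M]
  (F : I.Filtration M)

local notation "G" => GrRing (FiltBl.IdealFiltration.adic I)

theorem filtration_antitone {m n : ℕ} (h : m ≤ n) : F.N n ≤ F.N m := F.antitone h

/-- From an expression of a class in terms of classes, a congruence one step deeper. -/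
theorem exists_step {ι : Type*} [Fintype ι] (d : ι → ℕ) (x : (i : ι) → ↥(F.N (d i))) (n : ℕ)
    (y : F.N n)
    (hy : (inDegM F n y : GrMod F) ∈
      Submodule.span G (Set.range fun i => (inDegM F (d i) (x i) : GrMod F))) :
    ∃ a : ι → A, (∀ i, a i ∈ I ^ (n - d i)) ∧ (y : M) - ∑ i, a i • (x i : M) ∈ F.N (n + 1) := by
  classical
  obtain ⟨g, hg⟩ := (Submodule.mem_span_range_iff_exists_fun G).1 hy
  choose f hf using fun i => mkG_surjective (FiltBl.IdealFiltration.adic I) (g i)
  refine ⟨fun i => if d i ≤ n then (f i : Polynomial A).coeff (n - d i) else 0, fun i => ?_, ?_⟩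
  · dsimp only
    split_ifs with h
    · exact (f i).2 _
    · exact zero_mem _
  · have h1 : mkGM F (monomM F n y - ∑ i, f i • monomM F (d i) (x i)) = 0 := by
      rw [map_sub, map_sum, sub_eq_zero, ← coe_inDegM, ← hg]
      refine Finset.sum_congr rfl fun i _ => ?_
      rw [← hf i, coe_inDegM, mkG_smul_mkGM]
    rw [mkGM_eq_zero_iff] at h1
    have h2 := h1 n
    rw [← ReesM.coeffHom_apply, map_sub, map_sum, ReesM.coeffHom_apply, ReesM.coeff_monomM,
      if_pos rfl] at h2
    convert h2 using 3 with i _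
    rw [ReesM.coeffHom_apply, ReesM.coeff_smul]
    dsimp only
    split_ifs with h
    · rw [Finset.sum_eq_single (n - d i, d i)]
      · rw [ReesM.coeff_monomM, if_pos rfl]
      · rintro ⟨p, q⟩ hp hne
        rw [Finset.mem_antidiagonal] at hp
        rw [ReesM.coeff_monomM, if_neg, smul_zero]
        rintro rfl
        exact hne (by simp only [Prod.mk.injEq, and_true]; omega)
      · intro h'
        exact absurd (Finset.mem_antidiagonal.2 (Nat.sub_add_cancel h)) h'
    · rw [zero_smul]
      refine (Finset.sum_eq_zero ?_).symm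
      rintro ⟨p, q⟩ hp
      rw [Finset.mem_antidiagonal] at hp
      rw [ReesM.coeff_monomM, if_neg, smul_zero]
      omega

/-- Elements of a submodule whose classes are generated by the classes of given elements of the
submodule are combinations of those elements. -/
theorem le_span_of_inDegM_mem_span [IsPrecomplete I A] (h0 : F.N 0 = ⊤) (hsep : ⨅ n, F.N n = ⊥)
    {ι : Type*} [Fintype ι] (d : ι → ℕ) (x : (i : ι) → ↥(F.N (d i))) (M' : Submodule A M)
    (hx : ∀ i, (x i : M) ∈ M')
    (hgen : ∀ n (y : F.N n), (y : M) ∈ M' → (inDegM F n y : GrMod F) ∈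
      Submodule.span G (Set.range fun i => (inDegM F (d i) (x i) : GrMod F))) :
    M' ≤ Submodule.span A (Set.range fun i => (x i : M)) := by
  classical
  intro y hy
  set D := Finset.univ.sup d with hD
  have hdD : ∀ i, d i ≤ D := fun i => Finset.le_sup (Finset.mem_univ i)
  have init : ∀ k, ∃ a : ι → A, (y - ∑ i, a i • (x i : M)) ∈ F.N k := by
    intro k
    induction k with
    | zero => exact ⟨0, by rw [h0]; trivial⟩
    | succ k ih =>
      obtain ⟨a, ha⟩ := ih
      have hmem : y - ∑ i, a i • (x i : M) ∈ M' :=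
        sub_mem hy (sum_mem fun i _ => M'.smul_mem _ (hx i))
      obtain ⟨c, -, hc⟩ := exists_step F d x k ⟨_, ha⟩ (hgen k ⟨_, ha⟩ hmem)
      exact ⟨a + c, by simpa [add_smul, Finset.sum_add_distrib, sub_sub] using hc⟩
  obtain ⟨a, ha⟩ := init D
  have hmem : y - ∑ i, a i • (x i : M) ∈ M' :=
    sub_mem hy (sum_mem fun i _ => M'.smul_mem _ (hx i))
  obtain ⟨c, -, hc⟩ := exists_coeff_of_step (I := I) (fun i => (x i : M)) 0
    (fun n z => z ∈ F.N (n + D) ∧ z ∈ M') F.N
    (fun n z hz => filtration_antitone F (Nat.le_add_right n D) hz.1)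
    (fun n => by
      have := F.pow_smul_le n 0
      rwa [h0, Nat.add_zero] at this)
    hsep
    (fun n z hz => by
      obtain ⟨c, hc, hc'⟩ := exists_step F d x (n + D) ⟨z, hz.1⟩ (hgen _ ⟨z, hz.1⟩ hz.2)
      refine ⟨c, fun i => Ideal.pow_le_pow_right ?_ (hc i), ?_, ?_⟩
      · have := hdD i; omega
      · rwa [show n + 1 + D = n + D + 1 by omega]
      · exact sub_mem hz.2 (sum_mem fun i _ => M'.smul_mem _ (hx i)))
    (x := y - ∑ i, a i • (x i : M)) ⟨by simpa using ha, hmem⟩
  rw [sub_eq_iff_eq_add] at hc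
  rw [hc]
  exact add_mem (sum_mem fun i _ => Submodule.smul_mem _ _ (Submodule.subset_span ⟨i, rfl⟩))
    (sum_mem fun i _ => Submodule.smul_mem _ _ (Submodule.subset_span ⟨i, rfl⟩))

theorem span_eq_top [IsPrecomplete I A] (h0 : F.N 0 = ⊤) (hsep : ⨅ n, F.N n = ⊥)
    {ι : Type*} [Fintype ι] (d : ι → ℕ) (x : (i : ι) → ↥(F.N (d i)))
    (hgen : Submodule.span G (Set.range fun i => (inDegM F (d i) (x i) : GrMod F)) = ⊤) :
    Submodule.span A (Set.range fun i => (x i : M)) = ⊤ :=
  top_le_iff.1 (le_span_of_inDegM_mem_span F h0 hsep d x ⊤ (fun _ => trivial)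
    fun n y _ => by rw [hgen]; trivial)

/-- A finitely generated submodule of `gr M` spanned by classes of elements of `M'` is spanned by
finitely many of them. -/
theorem exists_finite_family (M' : Submodule A M)
    (hfg : (Submodule.span G {z : GrMod F | ∃ n, ∃ y : F.N n, (y : M) ∈ M' ∧
      (inDegM F n y : GrMod F) = z}).FG) :
    ∃ (k : ℕ) (d : Fin k → ℕ) (x : (i : Fin k) → ↥(F.N (d i))), (∀ i, (x i : M) ∈ M') ∧
      ∀ n (y : F.N n), (y : M) ∈ M' → (inDegM F n y : GrMod F) ∈
        Submodule.span G (Set.range fun i => (inDegM F (d i) (x i) : GrMod F)) := by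
  classical
  set S := {z : GrMod F | ∃ n, ∃ y : F.N n, (y : M) ∈ M' ∧ (inDegM F n y : GrMod F) = z}
  obtain ⟨T, hTS, hT⟩ := (Submodule.fg_span_iff_fg_span_finset_subset S).1 hfg
  have hmem : ∀ i : Fin T.card, ((T.equivFin.symm i : T) : GrMod F) ∈ S := fun i =>
    hTS (T.equivFin.symm i).2
  choose d y hy hyz using hmem
  refine ⟨T.card, d, y, hy, fun n z hz => ?_⟩
  have : (inDegM F n z : GrMod F) ∈ Submodule.span G (T : Set (GrMod F)) :=
    hT ▸ Submodule.subset_span ⟨n, z, hz, rfl⟩
  refine Submodule.span_mono ?_ this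
  intro t ht
  refine ⟨T.equivFin ⟨t, ht⟩, ?_⟩
  dsimp only
  rw [hyz]; simp

theorem mkGM_mem_span (y : ReesM F) :
    mkGM F y ∈ Submodule.span G {z : GrMod F | ∃ n, ∃ x : F.N n, (x : M) ∈ (⊤ : Submodule A M) ∧
      (inDegM F n x : GrMod F) = z} := by
  rw [← sum_termM F y, map_sum]
  exact sum_mem fun n _ => Submodule.subset_span ⟨n, _, trivial, coe_inDegM F n _⟩

end GrothLib.AdicLim
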