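import Groth.Agent.Lib.AdicLim.System
import Mathlib.RingTheory.Ideal.Maps

/-! Limits of systems of rings `B (n+1) → B n` with `ker = K_(n+1)^(n+1)`. -/

namespace GrothLib.AdicLim

universe u

theorem exists_compatible_family (m : ℕ) : ∀ (B : ℕ → Type u) (u : ∀ n, B (n + 1) → B n),
    (∀ n, Function.Surjective (u n)) → ∀ z : B m, ∃ g : ∀ n, B n, (∀ n, u n (g (n + 1)) = g n) ∧ g m = z := by
  induction m with
  | zero =>
    intro B u hu z
    exact ⟨fun n => Nat.rec z (fun n y => (hu n y).choose) n,
      fun n => (hu n _).choose_spec, rfl⟩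
  | succ m ih =>
    intro B u hu z
    obtain ⟨g, hg, rfl⟩ := ih (fun n => B (n + 1)) (fun n => u (n + 1)) (fun n => hu (n + 1)) z
    refine ⟨fun n => Nat.casesOn n (u 0 (g 0)) g, fun n => ?_, rfl⟩
    cases n with
    | zero => rfl
    | succ n => exact hg n

theorem sup_pow_le {R : Type u} [CommRing R] (a b : Ideal R) (n : ℕ) : (a ⊔ b) ^ n ≤ a ⊔ b ^ n := by
  induction n with
  | zero => simp
  | succ n ih =>
    rw [pow_succ, pow_succ]
    refine (Ideal.mul_mono_left ih).trans ?_
    rw [Ideal.mul_sup, Ideal.sup_mul, Ideal.sup_mul]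
    refine sup_le (sup_le ?_ ?_) (sup_le ?_ ?_) <;>
      first
        | exact le_sup_right
        | exact Ideal.mul_le_left.trans le_sup_left
        | exact Ideal.mul_le_right.trans le_sup_left

theorem ring_system
    (B : ℕ → Type u) [∀ n, CommRing (B n)]
    (u : ∀ n, B (n + 1) →+* B n) (hu : ∀ n, Function.Surjective (u n))
    (v : ∀ n, B n →+* B 0) (hv0 : v 0 = RingHom.id (B 0)) (hv : ∀ n, (v n).comp (u n) = v (n + 1))
    (hker : ∀ n, RingHom.ker (u n) = RingHom.ker (v (n + 1)) ^ (n + 1))
    (hfg : (RingHom.ker (v 1)).FG)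
    (A : Type u) [CommRing A] (p : ∀ n, A →+* B n)
    (hp : ∀ n, (u n).comp (p (n + 1)) = p n)
    (hinj : ∀ x : A, (∀ n, p n x = 0) → x = 0)
    (hlift : ∀ y : (∀ n, B n), (∀ n, u n (y (n + 1)) = y n) → ∃ x : A, ∀ n, p n x = y n) :
    IsAdicComplete (RingHom.ker (p 0)) A ∧
      (∀ n, Function.Surjective (p n) ∧ RingHom.ker (p n) = RingHom.ker (p 0) ^ (n + 1)) ∧
      (RingHom.ker (p 0)).FG := by
  classical
  have hp' : ∀ n x, u n (p (n + 1) x) = p n x := fun n x => RingHom.congr_fun (hp n) x
  have hps : ∀ n, Function.Surjective (p n) := by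
    intro m z
    obtain ⟨g, hg, rfl⟩ := exists_compatible_family m B (fun n => u n) hu z
    obtain ⟨x, hx⟩ := hlift g hg
    exact ⟨x, hx m⟩
  have hvp : ∀ n, (v n).comp (p n) = p 0 := by
    intro n
    induction n with
    | zero => rw [hv0, RingHom.id_comp]
    | succ n ih => rw [← hv, RingHom.comp_assoc, hp, ih]
  obtain ⟨r, g, hg⟩ := Submodule.fg_iff_exists_fin_generating_family.1 hfg
  choose a ha using fun i => hps 1 (g i)
  let J : Ideal A := Ideal.span (Set.range a)
  have hJI : J ≤ RingHom.ker (p 0) := by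
    rw [Ideal.span_le]
    rintro _ ⟨i, rfl⟩
    have : g i ∈ RingHom.ker (v 1) := hg ▸ Submodule.subset_span ⟨i, rfl⟩
    rw [← ha] at this
    rw [SetLike.mem_coe, RingHom.mem_ker, ← hvp 1]
    exact this
  -- the images of the kernels
  have hcomap : ∀ n, RingHom.ker (v (n + 1)) = (RingHom.ker (v n)).comap (u n) := fun n => by
    rw [← hv, RingHom.comap_ker]
  have hmapu : ∀ n, (RingHom.ker (v (n + 1))).map (u n) = RingHom.ker (v n) := fun n => by
    rw [hcomap, Ideal.map_comap_of_surjective _ (hu n)]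
  have hnil : ∀ n, RingHom.ker (v n) ^ (n + 1) = ⊥ := fun n => by
    rw [← hmapu, ← Ideal.map_pow, Ideal.map_eq_bot_iff_le_ker, hker]
  have hK : ∀ m, J.map (p m) = RingHom.ker (v m) := by
    intro m
    induction m with
    | zero =>
      rw [hv0, (RingHom.injective_iff_ker_eq_bot _).1 (show Function.Injective (RingHom.id (B 0)) from fun _ _ h => h)]
      rw [Ideal.map_eq_bot_iff_le_ker]
      exact hJI
    | succ m ih =>
      rcases Nat.eq_zero_or_pos m with rfl | hm
      · rw [← hg, Ideal.map_span, ← Set.range_comp, Ideal.span]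
        congr 2
        ext i
        exact ha i
      · set K := RingHom.ker (v (m + 1)) with hKdef
        have hle : J.map (p (m + 1)) ≤ K := by
          rw [Ideal.map_le_iff_le_comap, hKdef, RingHom.comap_ker, hvp]
          exact hJI
        have hsup : K ≤ J.map (p (m + 1)) ⊔ K ^ (m + 1) := by
          intro z hz
          have hz' : u m z ∈ (J.map (p (m + 1))).map (u m) := by
            rw [Ideal.map_map, hp, ih]
            rw [hKdef, hcomap] at hz
            exact hz
          obtain ⟨w, hw, hwz⟩ := (Ideal.mem_map_iff_of_surjective _ (hu m)).1 hz'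
          refine Submodule.mem_sup.2 ⟨w, hw, z - w, ?_, by abel⟩
          rw [hKdef, ← hker, RingHom.mem_ker, map_sub, hwz, sub_self]
        refine le_antisymm hle (hsup.trans (sup_le le_rfl ?_))
        calc K ^ (m + 1) ≤ (J.map (p (m + 1)) ⊔ K ^ (m + 1)) ^ (m + 1) := Ideal.pow_right_mono hsup _
          _ ≤ J.map (p (m + 1)) ⊔ (K ^ (m + 1)) ^ (m + 1) :=
            sup_pow_le (J.map (p (m + 1))) (K ^ (m + 1)) (m + 1)
          _ ≤ J.map (p (m + 1)) := by
            rw [← pow_mul]
            refine sup_le le_rfl ((Ideal.pow_le_pow_right ?_).trans ((hnil (m + 1)).le.trans bot_le))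
            nlinarith
  let inst : ∀ n, Module A (B n) := fun n => (p n).toModule
  let f : ∀ n, B (n + 1) →ₗ[A] B n := fun n =>
    { toFun := u n
      map_add' := map_add (u n)
      map_smul' := fun c x => by
        show u n (p (n + 1) c * x) = p n c * u n x
        rw [map_mul, hp'] }
  let π : ∀ n, A →ₗ[A] B n := fun n =>
    { toFun := p n
      map_add' := map_add (p n)
      map_smul' := fun c x => by
        show p n (c * x) = p n c * p n x
        rw [map_mul] }
  have hsys : IsLimitSystem J f π := by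
    refine ⟨hu, fun n => ?_, fun n => LinearMap.ext (hp' n), hinj, hlift⟩
    let : Algebra A (B (n + 1)) := (p (n + 1)).toAlgebra
    have e : (J ^ (n + 1) • ⊤ : Submodule A (B (n + 1))) =
        Submodule.restrictScalars A ((J ^ (n + 1)).map (p (n + 1))) := Ideal.smul_top_eq_map _
    rw [e, Ideal.map_pow, hK, ← hker]
    rfl
  have hk := hsys.ker_eq_of_fg (I := J) (Submodule.fg_span (Set.finite_range a))
  have hk' : ∀ n, RingHom.ker (p n) = J ^ (n + 1) := fun n => by
    have := hk n
    rw [Ideal.smul_eq_mul, Ideal.mul_top] at this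
    exact this
  have hI : RingHom.ker (p 0) = J := by rw [hk' 0, pow_one]
  rw [hI]
  exact ⟨hsys.isAdicComplete_of_ker hk, fun n => ⟨hps n, hk' n⟩, Submodule.fg_span (Set.finite_range a)⟩

end GrothLib.AdicLim
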