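import Groth.Prelude.Def_Formal2

/-! Towers of abelian groups indexed by `ℕ`: images of iterated transition maps and `lim¹`. -/

namespace GrothLib.AdicLim

universe u

variable {G : ℕ → Type u} [∀ n, AddCommGroup (G n)] (t : ∀ n, G (n + 1) →+ G n)

/-- The image of `G_{n+a} → G_n`. -/
def towerImage : ℕ → (n : ℕ) → AddSubgroup (G n)
  | 0, _ => ⊤
  | a + 1, n => (towerImage a (n + 1)).map (t n)

theorem towerImage_antitone {a b : ℕ} (h : a ≤ b) (n : ℕ) :
    towerImage t b n ≤ towerImage t a n := by
  induction a generalizing b n with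
  | zero => exact le_top
  | succ a ih =>
    obtain ⟨c, rfl⟩ : ∃ c, b = c + 1 := ⟨b - 1, by omega⟩
    exact AddSubgroup.map_mono (ih (by omega) (n + 1))

theorem exists_seq_of_mem_towerImage (a : ℕ) : ∀ (i : ℕ) (v : G i), v ∈ towerImage t a i →
    ∃ x : ∀ n, G n, x i = v ∧ ∀ n, i ≤ n → n < i + a → x n = t n (x (n + 1)) := by
  classical
  induction a with
  | zero =>
    intro i v _
    exact ⟨Function.update 0 i v, Function.update_self .., fun n h1 h2 => by omega⟩
  | succ a ih =>
    rintro i v ⟨w, hw, rfl⟩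
    obtain ⟨x, hx, hrec⟩ := ih (i + 1) w hw
    refine ⟨Function.update x i (t i w), Function.update_self .., fun n h1 h2 => ?_⟩
    rcases eq_or_lt_of_le h1 with rfl | h1
    · rw [Function.update_self, Function.update_of_ne (by omega), hx]
    · rw [Function.update_of_ne (by omega), Function.update_of_ne (by omega)]
      exact hrec n h1 (by omega)

theorem mem_towerImage_of_seq (x : ∀ n, G n) (hx : ∀ n, x n = t n (x (n + 1))) (a : ℕ) :
    ∀ n, x n ∈ towerImage t a n := by
  induction a with
  | zero => exact fun _ => trivial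
  | succ a ih => exact fun n => ⟨x (n + 1), ih (n + 1), (hx n).symm⟩

/-- Partial sums `y_n + t y_{n+1} + …` with `k` terms. -/
def partialSum (y : ∀ n, G n) : ℕ → ∀ n, G n
  | 0, _ => 0
  | k + 1, n => y n + t n (partialSum y k (n + 1))

theorem partialSum_sub_mem (y : ∀ n, G n) {a k l : ℕ} (hk : a ≤ k) (hl : a ≤ l) (n : ℕ) :
    partialSum t y k n - partialSum t y l n ∈ towerImage t a n := by
  induction a generalizing k l n with
  | zero => trivial
  | succ a ih =>
    obtain ⟨k, rfl⟩ : ∃ c, k = c + 1 := ⟨k - 1, by omega⟩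
    obtain ⟨l, rfl⟩ : ∃ c, l = c + 1 := ⟨l - 1, by omega⟩
    refine ⟨partialSum t y k (n + 1) - partialSum t y l (n + 1), ih (by omega) (by omega) (n + 1), ?_⟩
    simp [partialSum]

/-- `lim¹` vanishes as soon as the images stabilise. -/
theorem towerDiff_surjective (E : ∀ n, AddSubgroup (G n))
    (hE : ∀ n, ∃ a, towerImage t a n ≤ E n) (hsurj : ∀ n, E n ≤ (E (n + 1)).map (t n)) :
    Function.Surjective (Formal2.towerDiff G t) := by
  intro y
  choose a₀ ha₀ using hE
  let a : ℕ → ℕ := fun n => (Finset.range (n + 1)).sup a₀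
  have ha : ∀ n, towerImage t (a n) n ≤ E n := fun n =>
    (towerImage_antitone t (Finset.le_sup (Finset.self_mem_range_succ n)) n).trans (ha₀ n)
  have hmono : ∀ n, a n ≤ a (n + 1) := fun n =>
    Finset.sup_mono (Finset.range_subset_range.2 (by omega))
  let r : ∀ n, G n := fun n =>
    y n - (partialSum t y (a n) n - t n (partialSum t y (a (n + 1)) (n + 1)))
  have hr : ∀ n, r n ∈ E n := by
    intro n
    have := ha n (partialSum_sub_mem t y (a := a n) (k := a (n + 1) + 1) (l := a n)
      (Nat.le_succ_of_le (hmono n)) le_rfl n)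
    convert this using 1
    simp [r, partialSum]
    abel
  have step : ∀ (n : ℕ) (e : E n), ∃ e' : E (n + 1), t n e' = (e : G n) - r n := by
    intro n e
    obtain ⟨z, hz, hze⟩ := hsurj n (sub_mem e.2 (hr n))
    exact ⟨⟨z, hz⟩, hze⟩
  choose e' he' using step
  let e : (n : ℕ) → E n := fun n => Nat.rec 0 (fun n e => e' n e) n
  refine ⟨fun n => partialSum t y (a n) n + (e n).1, funext fun n => ?_⟩
  show _ - t n (_ + _) = y n
  rw [map_add, he' n (e n)]
  simp [r]
  abel

end GrothLib.AdicLim
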